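import Mathlib

/-!
# Normal subgroups with cyclic Sylow subgroups in `V₄, A₄, S₄, A₅, S₅` (helper5)
-/

set_option autoImplicit false

namespace Cfsg.Agent.Lib.H5.ZN

open Subgroup Equiv

/-- a group with two distinct commuting involutions is not a Z-group -/
theorem not_isZGroup_of_klein {H : Type*} [Group H] [Finite H] (c c' : H) (hc : orderOf c = 2)
    (hc' : orderOf c' = 2) (hne : c ≠ c') (hcomm : c * c' = c' * c) : ¬ IsZGroup H := by
  intro hZ
  haveI : Fact (Nat.Prime 2) := ⟨Nat.prime_two⟩
  set W : Subgroup H := closure {c, c'} with hW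
  have hcW : c ∈ W := subset_closure (by simp)
  have hc'W : c' ∈ W := subset_closure (by simp)
  haveI hWc : IsMulCommutative W := by
    apply Subgroup.isMulCommutative_closure
    intro x hx y hy
    simp only [Set.mem_insert_iff, Set.mem_singleton_iff] at hx hy
    rcases hx with rfl | rfl <;> rcases hy with rfl | rfl
    · rfl
    · exact hcomm
    · exact hcomm.symm
    · rfl
  have hsq : ∀ w : W, w * w = 1 := by
    intro w
    apply Subtype.ext
    have hw : (w : H) ∈ closure {c, c'} := w.2
    have hcc : c * c = 1 := by rw [← pow_two, ← hc]; exact pow_orderOf_eq_one c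
    have hcc' : c' * c' = 1 := by rw [← pow_two, ← hc']; exact pow_orderOf_eq_one c'
    have key : ∀ u ∈ closure {c, c'}, u * u = 1 ∧ (∀ v ∈ closure {c, c'}, u * v = v * u) := by
      intro u hu
      constructor
      · induction hu using closure_induction with
        | mem x hx =>
          simp only [Set.mem_insert_iff, Set.mem_singleton_iff] at hx
          rcases hx with rfl | rfl
          · exact hcc
          · exact hcc'
        | one => simp
        | mul x y hx hy ihx ihy =>
          have hxy : x * y = y * x := by
            have := hWc.is_comm.comm (⟨x, hx⟩ : W) ⟨y, hy⟩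
            exact congrArg Subtype.val this
          calc x * y * (x * y) = x * (y * x) * y := by group
            _ = x * (x * y) * y := by rw [hxy]
            _ = (x * x) * (y * y) := by group
            _ = 1 := by rw [ihx, ihy, one_mul]
        | inv x hx ihx =>
          calc x⁻¹ * x⁻¹ = (x * x)⁻¹ := by group
            _ = 1 := by rw [ihx, inv_one]
      · intro v hv
        have := hWc.is_comm.comm (⟨u, hu⟩ : W) ⟨v, hv⟩
        exact congrArg Subtype.val this
    exact (key _ hw).1
  have hpg : IsPGroup 2 W := by
    intro w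
    refine ⟨1, ?_⟩
    rw [pow_one, pow_two]
    exact hsq w
  haveI : IsZGroup W := inferInstance
  have hcyc : IsCyclic W := hpg.isCyclic_of_isZGroup
  -- a cyclic group has at most one involution
  obtain ⟨g, hg⟩ := hcyc.exists_generator
  have h1 : ∀ w : W, w = 1 ∨ w = g := by
    intro w
    obtain ⟨k, rfl⟩ := Subgroup.mem_zpowers_iff.mp (hg w)
    rcases Int.even_or_odd k with ⟨j, rfl⟩ | ⟨j, rfl⟩
    · left
      rw [← two_mul, zpow_mul, zpow_two, hsq g, one_zpow]
    · right
      rw [zpow_add, zpow_one, zpow_mul, zpow_two, hsq g, one_zpow, one_mul]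
  have hc1 : (⟨c, hcW⟩ : W) ≠ 1 := by
    intro h
    have : c = 1 := congrArg Subtype.val h
    rw [this, orderOf_one] at hc
    omega
  have hc'1 : (⟨c', hc'W⟩ : W) ≠ 1 := by
    intro h
    have : c' = 1 := congrArg Subtype.val h
    rw [this, orderOf_one] at hc'
    omega
  have e1 := (h1 ⟨c, hcW⟩).resolve_left hc1
  have e2 := (h1 ⟨c', hc'W⟩).resolve_left hc'1
  exact hne (congrArg Subtype.val (e1.trans e2.symm))

end Cfsg.Agent.Lib.H5.ZN
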