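import Mathlib
import Cfsg.Agent.Lib.H5.ZN.Facts

/-!
# Normal Z-subgroups of `V₄, A₄, S₄, A₅, S₅` (helper5)
-/

set_option autoImplicit false

namespace Cfsg.Agent.Lib.H5.ZN

open Subgroup Equiv

/-- a `p`-group which is a Z-group is cyclic -/
theorem isCyclic_of_isPGroup_of_isZGroup {H : Type*} [Group H] [IsZGroup H] {p : ℕ}
    [Fact p.Prime] (hp : IsPGroup p H) : IsCyclic H := by
  have h1 : IsPGroup p (⊤ : Subgroup H) := hp.to_subgroup ⊤
  haveI : IsCyclic (⊤ : Subgroup H) := h1.isCyclic_of_isZGroup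
  exact isCyclic_of_surjective (Subgroup.topEquiv (G := H)) (Subgroup.topEquiv (G := H)).surjective

/-! ### the four-group -/

theorem v4_sq : ∀ x : DihedralGroup 2, x * x = 1 := by decide

theorem card_v4 : Nat.card (DihedralGroup 2) = 4 := by
  rw [Nat.card_eq_fintype_card, DihedralGroup.card]

/-- a subgroup of the four-group all of whose Sylow subgroups are cyclic has order at most two -/
theorem card_le_two_of_isZGroup_v4 (H : Subgroup (DihedralGroup 2)) [IsZGroup H] :
    Nat.card H ≤ 2 := by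
  haveI : Fact (Nat.Prime 2) := ⟨Nat.prime_two⟩
  have hpg : IsPGroup 2 H := by
    intro w
    refine ⟨1, ?_⟩
    rw [pow_one, pow_two]
    exact Subtype.ext (v4_sq w)
  have hcyc : IsCyclic H := isCyclic_of_isPGroup_of_isZGroup hpg
  obtain ⟨g, hg⟩ := hcyc.exists_generator
  rw [← orderOf_eq_card_of_forall_mem_zpowers hg]
  apply orderOf_le_of_pow_eq_one (by norm_num)
  rw [pow_two]
  exact Subtype.ext (v4_sq g)

/-! ### `A₄` -/

set_option maxRecDepth 100000 in
theorem a4_klein : ∀ g : alternatingGroup (Fin 4), g ≠ 1 → ∃ x y : alternatingGroup (Fin 4),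
    (g * x * g⁻¹ * x⁻¹) ≠ 1 ∧ (g * x * g⁻¹ * x⁻¹) * (g * x * g⁻¹ * x⁻¹) = 1 ∧
    y * (g * x * g⁻¹ * x⁻¹) * y⁻¹ ≠ (g * x * g⁻¹ * x⁻¹) ∧
    (g * x * g⁻¹ * x⁻¹) * (y * (g * x * g⁻¹ * x⁻¹) * y⁻¹) =
      (y * (g * x * g⁻¹ * x⁻¹) * y⁻¹) * (g * x * g⁻¹ * x⁻¹) := by decide

theorem orderOf_two_of_sq {H : Type*} [Group H] {c : H} (h1 : c ≠ 1) (h2 : c * c = 1) :
    orderOf c = 2 := by
  haveI : Fact (Nat.Prime 2) := ⟨Nat.prime_two⟩
  exact orderOf_eq_prime (by rw [pow_two]; exact h2) h1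

/-- a normal subgroup of `A₄` all of whose Sylow subgroups are cyclic is trivial -/
theorem eq_bot_of_isZGroup_a4 (H : Subgroup (alternatingGroup (Fin 4))) [hn : H.Normal]
    [hZ : IsZGroup H] : H = ⊥ := by
  by_contra hne
  obtain ⟨g, hg, hg1⟩ := (Subgroup.ne_bot_iff_exists_ne_one).mp hne |>.imp
    (fun g h => h) |> fun ⟨g, h⟩ => (⟨g.1, g.2, fun h1 => h (Subtype.ext h1)⟩ :
      ∃ g : alternatingGroup (Fin 4), g ∈ H ∧ g ≠ 1)
  obtain ⟨x, y, h1, h2, h3, h4⟩ := a4_klein g hg1
  set c := g * x * g⁻¹ * x⁻¹ with hc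
  have hcH : c ∈ H := by
    have : c = g * (x * g⁻¹ * x⁻¹) := by rw [hc]; group
    rw [this]
    exact H.mul_mem hg (hn.conj_mem _ (H.inv_mem hg) x)
  have hc'H : y * c * y⁻¹ ∈ H := hn.conj_mem _ hcH y
  have h1' : y * c * y⁻¹ ≠ 1 := by
    intro h
    apply h1
    have : c = y⁻¹ * (y * c * y⁻¹) * y := by group
    rw [this, h]; group
  have h2' : (y * c * y⁻¹) * (y * c * y⁻¹) = 1 := by
    calc (y * c * y⁻¹) * (y * c * y⁻¹) = y * (c * c) * y⁻¹ := by group
      _ = 1 := by rw [h2]; group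
  refine not_isZGroup_of_klein (H := H) ⟨c, hcH⟩ ⟨y * c * y⁻¹, hc'H⟩ ?_ ?_ ?_ ?_ hZ
  · apply orderOf_two_of_sq
    · intro h; exact h1 (congrArg Subtype.val h)
    · exact Subtype.ext h2
  · apply orderOf_two_of_sq
    · intro h; exact h1' (congrArg Subtype.val h)
    · exact Subtype.ext h2'
  · intro h; exact h3 (congrArg Subtype.val h).symm
  · exact Subtype.ext h4

/-! ### `A₅` -/

def k1 : alternatingGroup (Fin 5) :=
  ⟨swap 0 1 * swap 2 3, by rw [Equiv.Perm.mem_alternatingGroup]; decide⟩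
def k2 : alternatingGroup (Fin 5) :=
  ⟨swap 0 2 * swap 1 3, by rw [Equiv.Perm.mem_alternatingGroup]; decide⟩
theorem k1_sq : k1 * k1 = 1 := by decide
theorem k2_sq : k2 * k2 = 1 := by decide
theorem k1_ne : k1 ≠ 1 := by decide
theorem k2_ne : k2 ≠ 1 := by decide
theorem k12 : k1 ≠ k2 := by decide
theorem k1k2 : k1 * k2 = k2 * k1 := by decide

theorem not_isZGroup_a5 : ¬ IsZGroup (alternatingGroup (Fin 5)) :=
  not_isZGroup_of_klein k1 k2 (orderOf_two_of_sq k1_ne k1_sq) (orderOf_two_of_sq k2_ne k2_sq)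
    k12 k1k2

/-- a normal subgroup of `A₅` all of whose Sylow subgroups are cyclic is trivial -/
theorem eq_bot_of_isZGroup_a5 (H : Subgroup (alternatingGroup (Fin 5))) [hn : H.Normal]
    [hZ : IsZGroup H] : H = ⊥ := by
  haveI := alternatingGroup.isSimpleGroup_five
  rcases hn.eq_bot_or_eq_top with h | h
  · exact h
  · exfalso
    apply not_isZGroup_a5
    subst h
    exact IsZGroup.of_surjective (f := (Subgroup.topEquiv (G := alternatingGroup (Fin 5))).toMonoidHom)
      (Subgroup.topEquiv (G := alternatingGroup (Fin 5))).surjective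

/-! ### symmetric groups -/

set_option maxRecDepth 100000 in
theorem s4_center : ∀ g : Perm (Fin 4), (∀ h : Perm (Fin 4), h * g = g * h) → g = 1 := by decide

set_option maxRecDepth 100000 in
theorem s5_center : ∀ g : Perm (Fin 5), (∀ h : Perm (Fin 5), h * g = g * h) → g = 1 := by decide

/-- from the alternating group to the symmetric group -/
theorem eq_bot_of_isZGroup_perm (n : ℕ)
    (hA : ∀ H : Subgroup (alternatingGroup (Fin n)), H.Normal → IsZGroup H → H = ⊥)
    (hc : ∀ g : Perm (Fin n), (∀ h : Perm (Fin n), h * g = g * h) → g = 1)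
    (H : Subgroup (Perm (Fin n))) [hn : H.Normal] [hZ : IsZGroup H] : H = ⊥ := by
  -- the even part of `H` is trivial
  have h0 : H.subgroupOf (alternatingGroup (Fin n)) = ⊥ := by
    apply hA
    · infer_instance
    · let f : H.subgroupOf (alternatingGroup (Fin n)) →* H :=
        { toFun := fun x => ⟨(x : alternatingGroup (Fin n)), x.2⟩
          map_one' := rfl
          map_mul' := fun _ _ => rfl }
      apply IsZGroup.of_injective (f := f)
      intro a b hab
      apply Subtype.ext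
      apply Subtype.ext
      exact congrArg (fun u : H => (u : Perm (Fin n))) hab
  have heven : ∀ g ∈ H, Perm.sign g = 1 → g = 1 := by
    intro g hg hs
    have hgA : g ∈ alternatingGroup (Fin n) := Perm.mem_alternatingGroup.mpr hs
    have : (⟨g, hgA⟩ : alternatingGroup (Fin n)) ∈ H.subgroupOf (alternatingGroup (Fin n)) := by
      rw [Subgroup.mem_subgroupOf]; exact hg
    rw [h0, Subgroup.mem_bot] at this
    exact congrArg Subtype.val this
  rw [eq_bot_iff]
  intro t ht
  rw [Subgroup.mem_bot]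
  by_contra ht1
  have hst : Perm.sign t = -1 := by
    rcases Int.units_eq_one_or (Perm.sign t) with h | h
    · exact absurd (heven t ht h) ht1
    · exact h
  -- `t` is central
  apply ht1
  apply hc
  intro x
  have h1 : x * t * x⁻¹ ∈ H := hn.conj_mem t ht x
  have h2 : (x * t * x⁻¹) * t⁻¹ ∈ H := H.mul_mem h1 (H.inv_mem ht)
  have h3 : Perm.sign ((x * t * x⁻¹) * t⁻¹) = 1 := by
    simp only [map_mul, map_inv, hst]
    rw [mul_comm (Perm.sign x), mul_assoc, mul_assoc]
    simp
  have h4 := heven _ h2 h3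
  calc x * t = ((x * t * x⁻¹) * t⁻¹) * t * x := by group
    _ = t * x := by rw [h4, one_mul]

theorem eq_bot_of_isZGroup_s4 (H : Subgroup (Perm (Fin 4))) [H.Normal] [IsZGroup H] : H = ⊥ :=
  eq_bot_of_isZGroup_perm 4 (fun H hn hZ => by
    haveI := hn; haveI := hZ; exact eq_bot_of_isZGroup_a4 H) s4_center H

theorem eq_bot_of_isZGroup_s5 (H : Subgroup (Perm (Fin 5))) [H.Normal] [IsZGroup H] : H = ⊥ :=
  eq_bot_of_isZGroup_perm 5 (fun H hn hZ => by
    haveI := hn; haveI := hZ; exact eq_bot_of_isZGroup_a5 H) s5_center H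

/-! ### orders -/

theorem card_a4 : Nat.card (alternatingGroup (Fin 4)) = 12 := by
  have := two_mul_nat_card_alternatingGroup (α := Fin 4)
  rw [Nat.card_perm, Nat.card_fin] at this
  have h : Nat.factorial 4 = 24 := rfl
  omega

theorem card_s4 : Nat.card (Perm (Fin 4)) = 24 := by
  rw [Nat.card_perm, Nat.card_fin]; rfl

theorem card_a5 : Nat.card (alternatingGroup (Fin 5)) = 60 := by
  have := two_mul_nat_card_alternatingGroup (α := Fin 5)
  rw [Nat.card_perm, Nat.card_fin] at this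
  have h : Nat.factorial 5 = 120 := rfl
  omega

theorem card_s5 : Nat.card (Perm (Fin 5)) = 120 := by
  rw [Nat.card_perm, Nat.card_fin]; rfl

end Cfsg.Agent.Lib.H5.ZN
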