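import Mathlib
import Cfsg.Agent.Lib.H5.ZN.FactsT
import Cfsg.Agent.Lib.H25.ZasSyl

/-!
# Uniqueness of the normal Z-subgroup with quotient `1, V₄, A₄, S₄, A₅, S₅` (helper5)
-/

set_option autoImplicit false

namespace Cfsg.Agent.Lib.H5.ZN

open Subgroup Equiv Cfsg.Agent.Lib.H25.Zas

variable {G : Type*} [Group G]

/-- all Sylow subgroups of `N` are cyclic (the form used in statement S4291) -/
def SylCyc (N : Subgroup G) : Prop := ∀ (p : ℕ) [Fact p.Prime] (P : Sylow p N), IsCyclic P

theorem SylCyc.isZGroup {N : Subgroup G} (h : SylCyc N) : IsZGroup N :=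
  ⟨fun p hp P => by haveI := Fact.mk hp; exact h p P⟩

theorem sylCyc_of_isZGroup {N : Subgroup G} (h : IsZGroup N) : SylCyc N :=
  fun p hp P => h.isZGroup p hp.out P

/-- quotient of order at least `12` without non-trivial normal Z-subgroups -/
def BigQuot (N : Subgroup G) : Prop :=
  ∃ (T : Type) (_ : Group T) (_ : Finite T) (f : G →* T), Function.Surjective f ∧ f.ker = N ∧
    12 ≤ Nat.card T ∧ ∀ H : Subgroup T, H.Normal → IsZGroup H → H = ⊥

/-- quotient isomorphic to the four-group -/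
def SmallQuot (N : Subgroup G) : Prop :=
  ∃ f : G →* DihedralGroup 2, Function.Surjective f ∧ f.ker = N

/-- the quotient condition of S4291 -/
def QuotCond (N : Subgroup G) : Prop :=
  N = ⊤ ∨
    (∃ f : G →* DihedralGroup 2, Function.Surjective f ∧ f.ker = N) ∨
    (∃ f : G →* alternatingGroup (Fin 4), Function.Surjective f ∧ f.ker = N) ∨
    (∃ f : G →* Equiv.Perm (Fin 4), Function.Surjective f ∧ f.ker = N) ∨
    (∃ f : G →* alternatingGroup (Fin 5), Function.Surjective f ∧ f.ker = N) ∨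
    (∃ f : G →* Equiv.Perm (Fin 5), Function.Surjective f ∧ f.ker = N)

theorem QuotCond.cases {N : Subgroup G} (h : QuotCond N) : N = ⊤ ∨ SmallQuot N ∨ BigQuot N := by
  rcases h with h | h | ⟨f, hf, hk⟩ | ⟨f, hf, hk⟩ | ⟨f, hf, hk⟩ | ⟨f, hf, hk⟩
  · exact Or.inl h
  · exact Or.inr (Or.inl h)
  · exact Or.inr (Or.inr ⟨_, inferInstance, inferInstance, f, hf, hk, by rw [card_a4],
      fun H hn hZ => by haveI := hn; haveI := hZ; exact eq_bot_of_isZGroup_a4 H⟩)
  · exact Or.inr (Or.inr ⟨_, inferInstance, inferInstance, f, hf, hk, by rw [card_s4]; norm_num,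
      fun H hn hZ => by haveI := hn; haveI := hZ; exact eq_bot_of_isZGroup_s4 H⟩)
  · exact Or.inr (Or.inr ⟨_, inferInstance, inferInstance, f, hf, hk, by rw [card_a5]; norm_num,
      fun H hn hZ => by haveI := hn; haveI := hZ; exact eq_bot_of_isZGroup_a5 H⟩)
  · exact Or.inr (Or.inr ⟨_, inferInstance, inferInstance, f, hf, hk, by rw [card_s5]; norm_num,
      fun H hn hZ => by haveI := hn; haveI := hZ; exact eq_bot_of_isZGroup_s5 H⟩)

section

variable [Finite G]

/-- the image of a Z-subgroup is a Z-group -/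
theorem isZGroup_map {T : Type*} [Group T] (f : G →* T) (N : Subgroup G) [IsZGroup N] :
    IsZGroup (N.map f) :=
  IsZGroup.of_surjective (f := f.subgroupMap N) (f.subgroupMap_surjective N)

/-- a normal Z-subgroup lies in the kernel of a "big" quotient -/
theorem le_of_bigQuot {N₁ N₂ : Subgroup G} [hn : N₁.Normal] [IsZGroup N₁] (h : BigQuot N₂) :
    N₁ ≤ N₂ := by
  obtain ⟨T, _, _, f, hf, hk, -, hT⟩ := h
  have h1 : N₁.map f = ⊥ := hT _ (hn.map f hf) (isZGroup_map f N₁)
  rw [← hk]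
  exact (Subgroup.map_eq_bot_iff N₁).mp h1

theorem index_of_surjective {T : Type*} [Group T] (f : G →* T) (hf : Function.Surjective f) :
    f.ker.index = Nat.card T := by
  rw [Subgroup.index_ker, MonoidHom.range_eq_top.mpr hf, Subgroup.card_top]

theorem not_bigQuot_of_isZGroup {N : Subgroup G} (hG : IsZGroup (⊤ : Subgroup G))
    (h : BigQuot N) : False := by
  haveI := hG
  have h1 : (⊤ : Subgroup G) ≤ N := le_of_bigQuot h
  obtain ⟨T, _, _, f, hf, hk, h12, -⟩ := h
  have h2 := index_of_surjective f hf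
  rw [hk, top_le_iff.mp h1, Subgroup.index_top] at h2
  omega

theorem not_smallQuot_of_isZGroup {N : Subgroup G} (hG : IsZGroup (⊤ : Subgroup G))
    (h : SmallQuot N) : False := by
  haveI := hG
  obtain ⟨f, hf, -⟩ := h
  haveI : IsZGroup ((⊤ : Subgroup G).map f) := isZGroup_map f ⊤
  have h1 := card_le_two_of_isZGroup_v4 ((⊤ : Subgroup G).map f)
  rw [← MonoidHom.range_eq_map, MonoidHom.range_eq_top.mpr hf, Subgroup.card_top, card_v4] at h1
  omega

theorem not_small_big {N₁ N₂ : Subgroup G} [N₁.Normal] [IsZGroup N₁] (h1 : SmallQuot N₁)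
    (h2 : BigQuot N₂) : False := by
  have hle : N₁ ≤ N₂ := le_of_bigQuot h2
  obtain ⟨f, hf, hk⟩ := h1
  obtain ⟨T, _, _, g, hg, hk', h12, -⟩ := h2
  have h3 := index_of_surjective f hf
  have h4 := index_of_surjective g hg
  rw [hk, card_v4] at h3
  rw [hk'] at h4
  have h5 := Subgroup.index_dvd_of_le hle
  rw [h3, h4] at h5
  have := Nat.le_of_dvd (by norm_num) h5
  omega

end

/-- every element is `u ^ i * v ^ j` -/
def TwoGen (P : Type*) [Group P] : Prop := ∃ u v : P, ∀ y : P, ∃ i j : ℕ, y = u ^ i * v ^ j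

theorem twoGen_of_isCyclic {P : Type*} [Group P] [Finite P] [h : IsCyclic P] : TwoGen P := by
  obtain ⟨g, hg⟩ := h.exists_generator
  refine ⟨g, 1, fun y => ?_⟩
  have h1 : y ∈ Submonoid.powers g := mem_powers_iff_mem_zpowers.mpr (hg y)
  obtain ⟨k, rfl⟩ := (Submonoid.mem_powers_iff y g).mp h1
  exact ⟨k, 0, by simp⟩

theorem twoGen_quaternion (m : ℕ) [NeZero m] : TwoGen (QuaternionGroup m) := by
  haveI : NeZero (2 * m) := ⟨by have := NeZero.ne m; omega⟩
  refine ⟨QuaternionGroup.xa 0, QuaternionGroup.a 1, fun y => ?_⟩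
  cases y with
  | a i =>
    refine ⟨0, i.val, ?_⟩
    rw [pow_zero, one_mul, QuaternionGroup.a_one_pow, ZMod.natCast_zmod_val]
  | xa i =>
    refine ⟨1, i.val, ?_⟩
    rw [pow_one, QuaternionGroup.a_one_pow, ZMod.natCast_zmod_val, QuaternionGroup.xa_mul_a,
      zero_add]

theorem TwoGen.of_mulEquiv {P Q : Type*} [Group P] [Group Q] (h : TwoGen Q) (e : P ≃* Q) :
    TwoGen P := by
  obtain ⟨u, v, huv⟩ := h
  refine ⟨e.symm u, e.symm v, fun y => ?_⟩
  obtain ⟨i, j, hij⟩ := huv (e y)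
  refine ⟨i, j, ?_⟩
  apply e.injective
  rw [hij, map_mul, map_pow, map_pow, MulEquiv.apply_symm_apply, MulEquiv.apply_symm_apply]

/-- the image of a two-generated group in a group of exponent two has at most four elements -/
theorem TwoGen.card_range_le {P A : Type*} [Group P] [Group A] (h : TwoGen P) (ψ : P →* A)
    (hA : ∀ x : A, x * x = 1) : Nat.card ψ.range ≤ 4 := by
  classical
  obtain ⟨u, v, huv⟩ := h
  have hpow : ∀ (x : A) (k : ℕ), x ^ k = 1 ∨ x ^ k = x := by
    intro x k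
    induction k with
    | zero => left; exact pow_zero x
    | succ k ih =>
      rcases ih with h | h
      · right; rw [pow_succ, h, one_mul]
      · left; rw [pow_succ, h, hA]
  set S : Finset A := {1, ψ u, ψ v, ψ u * ψ v} with hS
  have hsub : (ψ.range : Set A) ⊆ (S : Set A) := by
    rintro _ ⟨y, rfl⟩
    obtain ⟨i, j, rfl⟩ := huv y
    rw [map_mul, map_pow, map_pow, Finset.mem_coe, hS]
    simp only [Finset.mem_insert, Finset.mem_singleton]
    rcases hpow (ψ u) i with h1 | h1 <;> rcases hpow (ψ v) j with h2 | h2 <;> rw [h1, h2]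
    · left; rw [one_mul]
    · right; right; left; rw [one_mul]
    · right; left; rw [mul_one]
    · right; right; right; rfl
  have h1 : Nat.card ψ.range = (ψ.range : Set A).ncard := rfl
  rw [h1]
  calc (ψ.range : Set A).ncard ≤ (S : Set A).ncard := Set.ncard_le_ncard hsub (Finset.finite_toSet S)
    _ = S.card := Set.ncard_coe_finset S
    _ ≤ 4 := Finset.card_le_four

section

variable [Finite G]

/-- two "small" quotients coincide -/
theorem eq_of_small_small (hF : IsFPF G) {N₁ N₂ : Subgroup G} (h1 : SmallQuot N₁)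
    (h2 : SmallQuot N₂) : N₁ = N₂ := by
  haveI : Fact (Nat.Prime 2) := ⟨Nat.prime_two⟩
  obtain ⟨f₁, hf₁, hk₁⟩ := h1
  obtain ⟨f₂, hf₂, hk₂⟩ := h2
  set D := N₁ ⊓ N₂ with hD
  have hker : (f₁.prod f₂).ker = D := by rw [MonoidHom.ker_prod, hk₁, hk₂]
  haveI hDn : D.Normal := by rw [← hker]; infer_instance
  -- `G ⧸ D` has exponent two
  have hsq : ∀ x : G ⧸ D, x * x = 1 := by
    intro x
    obtain ⟨g, rfl⟩ := QuotientGroup.mk_surjective x
    rw [← QuotientGroup.mk_mul, QuotientGroup.eq_one_iff, ← hker, MonoidHom.mem_ker,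
      MonoidHom.prod_apply, map_mul, map_mul, v4_sq, v4_sq]
    rfl
  obtain ⟨P⟩ : Nonempty (Sylow 2 G) := inferInstance
  have hP2 : TwoGen P := by
    rcases hF.sylow 2 P with hc | ⟨-, n, ⟨e⟩⟩
    · haveI := hc
      exact twoGen_of_isCyclic
    · haveI : NeZero (2 ^ n) := ⟨by positivity⟩
      exact (twoGen_quaternion (2 ^ n)).of_mulEquiv e
  -- the image of `P` is everything
  have hsurj := QuotientGroup.mk'_surjective D
  have hpg : IsPGroup 2 (G ⧸ D) := by
    intro x
    refine ⟨1, ?_⟩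
    rw [pow_one, pow_two]
    exact hsq x
  have htop : (P : Subgroup G).map (QuotientGroup.mk' D) = ⊤ := by
    have h3 := (P.mapSurjective hsurj).is_maximal' (Q := ⊤) (hpg.to_subgroup ⊤) le_top
    rw [Sylow.coe_mapSurjective] at h3
    exact h3.symm
  have hcard : Nat.card (G ⧸ D) ≤ 4 := by
    have h4 := hP2.card_range_le ((QuotientGroup.mk' D).comp (P : Subgroup G).subtype) hsq
    rw [MonoidHom.range_comp, Subgroup.range_subtype, htop, Subgroup.card_top] at h4
    exact h4
  have hidx : D.index ≤ 4 := by rw [Subgroup.index_eq_card]; exact hcard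
  have hD0 : D.index ≠ 0 := Subgroup.index_ne_zero_of_finite
  have key : ∀ (N : Subgroup G) (f : G →* DihedralGroup 2), Function.Surjective f → f.ker = N →
      D ≤ N → N ≤ D := by
    intro N f hf hk hle
    have h3 := index_of_surjective f hf
    rw [hk, card_v4] at h3
    have h4 := Subgroup.relIndex_mul_index hle
    rw [h3] at h4
    have h5 : D.relIndex N = 1 := by
      have : D.relIndex N * 4 ≤ 4 := by rw [h4]; exact hidx
      have h6 : D.relIndex N ≠ 0 := by
        intro h0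
        rw [h0, zero_mul] at h4
        exact hD0 h4.symm
      omega
    exact Subgroup.relIndex_eq_one.mp h5
  have e1 : N₁ ≤ D := key N₁ f₁ hf₁ hk₁ inf_le_left
  have e2 : N₂ ≤ D := key N₂ f₂ hf₂ hk₂ inf_le_right
  exact le_antisymm (e1.trans inf_le_right) (e2.trans inf_le_left)

/-- **Uniqueness** in S4291. -/
theorem uniqueness (hF : IsFPF G) {N₁ N₂ : Subgroup G} (hn₁ : N₁.Normal) (hn₂ : N₂.Normal)
    (hs₁ : SylCyc N₁) (hs₂ : SylCyc N₂) (hq₁ : QuotCond N₁) (hq₂ : QuotCond N₂) : N₁ = N₂ := by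
  haveI := hn₁
  haveI := hn₂
  haveI := hs₁.isZGroup
  haveI := hs₂.isZGroup
  rcases hq₁.cases with h1 | h1 | h1 <;> rcases hq₂.cases with h2 | h2 | h2
  · rw [h1, h2]
  · exact (not_smallQuot_of_isZGroup (h1 ▸ hs₁.isZGroup) h2).elim
  · exact (not_bigQuot_of_isZGroup (h1 ▸ hs₁.isZGroup) h2).elim
  · exact (not_smallQuot_of_isZGroup (h2 ▸ hs₂.isZGroup) h1).elim
  · exact eq_of_small_small hF h1 h2
  · exact (not_small_big h1 h2).elim
  · exact (not_bigQuot_of_isZGroup (h2 ▸ hs₂.isZGroup) h1).elim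
  · exact (not_small_big h2 h1).elim
  · exact le_antisymm (le_of_bigQuot h2) (le_of_bigQuot h1)

end

end Cfsg.Agent.Lib.H5.ZN
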