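import Mathlib
import Cfsg.Agent.Lib.H5.ZN.Uniq

/-!
# S4291, existence: groups with a normal `2`-complement and quaternion Sylow `2`-subgroups
(helper5)
-/

set_option autoImplicit false

namespace Cfsg.Agent.Lib.H5.ZN

open Subgroup Equiv Cfsg.Agent.Lib.H25.Zas

section quat

variable (m : ℕ) [NeZero m]

/-- reduction `ℤ/2m → ℤ/2` -/
noncomputable def redTwo : ZMod (2 * m) →+* ZMod 2 := ZMod.castHom (dvd_mul_right 2 m) (ZMod 2)

theorem redTwo_m (hm : Even m) : redTwo m (m : ZMod (2 * m)) = 0 := by
  rw [map_natCast, ZMod.natCast_eq_zero_iff]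
  exact even_iff_two_dvd.mp hm

/-- the projection of a generalized quaternion group (`m` even) onto the four-group -/
noncomputable def quatToV4 (hm : Even m) : QuaternionGroup m →* DihedralGroup 2 :=
  MonoidHom.mk'
    (fun x => match x with
      | .a i => DihedralGroup.r (redTwo m i)
      | .xa i => DihedralGroup.sr (redTwo m i))
    (by
      intro x y
      cases x with
      | a i =>
        cases y with
        | a j =>
          show DihedralGroup.r (redTwo m (i + j)) = DihedralGroup.r _ * DihedralGroup.r _
          rw [DihedralGroup.r_mul_r, map_add]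
        | xa j =>
          show DihedralGroup.sr (redTwo m (j - i)) = DihedralGroup.r _ * DihedralGroup.sr _
          rw [DihedralGroup.r_mul_sr, map_sub]
      | xa i =>
        cases y with
        | a j =>
          show DihedralGroup.sr (redTwo m (i + j)) = DihedralGroup.sr _ * DihedralGroup.r _
          rw [DihedralGroup.sr_mul_r, map_add]
        | xa j =>
          show DihedralGroup.r (redTwo m ((m : ZMod (2 * m)) + j - i)) =
            DihedralGroup.sr _ * DihedralGroup.sr _
          rw [DihedralGroup.sr_mul_sr, map_sub, map_add, redTwo_m m hm, zero_add])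

theorem quatToV4_surjective (hm : Even m) : Function.Surjective (quatToV4 m hm) := by
  intro y
  cases y with
  | r i =>
    obtain ⟨j, rfl⟩ := ZMod.ringHom_surjective (redTwo m) i
    exact ⟨QuaternionGroup.a j, rfl⟩
  | sr i =>
    obtain ⟨j, rfl⟩ := ZMod.ringHom_surjective (redTwo m) i
    exact ⟨QuaternionGroup.xa j, rfl⟩

/-- the kernel of the projection consists of powers of `a` -/
theorem mem_zpowers_of_quatToV4_eq_one (hm : Even m) {x : QuaternionGroup m}
    (h : quatToV4 m hm x = 1) : x ∈ zpowers (QuaternionGroup.a 1 : QuaternionGroup m) := by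
  haveI : NeZero (2 * m) := ⟨by have := NeZero.ne m; omega⟩
  cases x with
  | a i =>
    rw [Subgroup.mem_zpowers_iff]
    refine ⟨(i.val : ℤ), ?_⟩
    rw [zpow_natCast, QuaternionGroup.a_one_pow, ZMod.natCast_zmod_val]
  | xa i =>
    exfalso
    have h1 : DihedralGroup.sr (redTwo m i) = (1 : DihedralGroup 2) := h
    rw [DihedralGroup.one_def] at h1
    cases h1

end quat

variable {G : Type*} [Group G] [Finite G]

/-- a surjection onto a generalized quaternion group with kernel of odd order gives the subgroup
`N` with quotient the four-group -/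
theorem exists_of_hom_quaternion (hF : IsFPF G) {m : ℕ} [NeZero m] (hm : Even m)
    (Φ : G →* QuaternionGroup m) (hΦ : Function.Surjective Φ) (hker : ¬ 2 ∣ Nat.card Φ.ker) :
    ∃ N : Subgroup G, N.Normal ∧ SylCyc N ∧ QuotCond N := by
  let f : G →* DihedralGroup 2 := (quatToV4 m hm).comp Φ
  have hf : Function.Surjective f := (quatToV4_surjective m hm).comp hΦ
  refine ⟨f.ker, inferInstance, ?_, Or.inr (Or.inl ⟨f, hf, rfl⟩)⟩
  intro p hp P
  rcases (hF.subgroup f.ker).sylow p P with hc | ⟨rfl, -⟩
  · exact hc
  -- a `2`-subgroup of the kernel embeds into `⟨a⟩`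
  let ψ : (P : Subgroup f.ker) →* zpowers (QuaternionGroup.a 1 : QuaternionGroup m) :=
    (Φ.comp (f.ker.subtype.comp (P : Subgroup f.ker).subtype)).codRestrict _ (fun t => by
      apply mem_zpowers_of_quatToV4_eq_one m hm
      exact (t : f.ker).2)
  have hψ : Function.Injective ψ := by
    rw [injective_iff_map_eq_one]
    intro t ht
    have h1 : Φ ((t : f.ker) : G) = 1 := congrArg Subtype.val ht
    have h2 : ((t : f.ker) : G) ∈ Φ.ker := h1
    obtain ⟨k, hk⟩ := P.2 t
    have h3 : orderOf ((t : f.ker) : G) ∣ 2 ^ k := by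
      apply orderOf_dvd_of_pow_eq_one
      have := congrArg (fun u : (P : Subgroup f.ker) => ((u : f.ker) : G)) hk
      simpa using this
    have h4 : orderOf ((t : f.ker) : G) ∣ Nat.card Φ.ker := by
      have := orderOf_dvd_natCard (⟨((t : f.ker) : G), h2⟩ : Φ.ker)
      rwa [Subgroup.orderOf_mk] at this
    have hcop : Nat.Coprime (2 ^ k) (Nat.card Φ.ker) :=
      Nat.Coprime.pow_left k ((Nat.Prime.coprime_iff_not_dvd Nat.prime_two).mpr hker)
    have h5 : orderOf ((t : f.ker) : G) = 1 := Nat.eq_one_of_dvd_coprimes hcop h3 h4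
    apply Subtype.ext
    apply Subtype.ext
    exact orderOf_eq_one_iff.mp h5
  exact isCyclic_of_injective ψ hψ

end Cfsg.Agent.Lib.H5.ZN
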