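import Mathlib
import Cfsg.Agent.Lib.H5.ZN.Uniq
import Cfsg.Agent.Lib.H5.Zas.Basic
import Cfsg.Agent.Lib.H4.FC.G0
import Cfsg.Agent.Lib.H16.NormalComplementDescent
import Cfsg.Agent.Lib.H6.TwoRes2
import Cfsg.Agent.Lib.L0.TransferPC

/-!
# S4291, existence: a normal quaternion subgroup of order `8` (helper5)
-/

set_option autoImplicit false

namespace Cfsg.Agent.Lib.H5.ZN

open Subgroup Equiv Cfsg.Agent.Lib.H25.Zas

theorem q8_center : ∀ x : QuaternionGroup 2, (∀ y : QuaternionGroup 2, y * x = x * y) →
    x = 1 ∨ x = QuaternionGroup.a 2 := by decide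

variable {G : Type*} [Group G] [Finite G]

/-- a subgroup all of whose Sylow `2`-subgroups are cyclic has a normal `2`-complement -/
theorem hasNormalPComplement_of_sylCyc (N : Subgroup G) (h : SylCyc N) :
    Cfsg.HasNormalPComplement 2 N := by
  haveI : Fact (Nat.Prime 2) := ⟨Nat.prime_two⟩
  obtain ⟨P⟩ : Nonempty (Sylow 2 N) := inferInstance
  exact Cfsg.Agent.Lib.L0.hasNormalPComplement_of_normalizer_le_centralizer P
    (Cfsg.Agent.Lib.H6.TwoRes.normalizer_le_centralizer_of_cyclic_sylow P (h 2 P))

/-- the case of a normal quaternion subgroup of order `8` without normal `2`-complement -/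
theorem exists_of_normal_q8 (hF : IsFPF G) (Q : Subgroup G) [hQ : Q.Normal]
    (e : Q ≃* QuaternionGroup 2) (hnc : ¬ Cfsg.HasNormalPComplement 2 G) :
    ∃ N : Subgroup G, N.Normal ∧ SylCyc N ∧ QuotCond N := by
  haveI : Fact (Nat.Prime 2) := ⟨Nat.prime_two⟩
  obtain ⟨ψ⟩ := Cfsg.Agent.S3742.result
  let f₀ : G →* Perm (Fin 4) :=
    ψ.toMonoidHom.comp ((MulAut.congr e).toMonoidHom.comp (MulAut.conjNormal (H := Q)))
  have hker : ∀ g : G, g ∈ f₀.ker ↔ ∀ q ∈ Q, q * g = g * q := by
    intro g
    rw [MonoidHom.mem_ker]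
    have h1 : f₀ g = 1 ↔ (MulAut.conjNormal (H := Q)) g = 1 := by
      constructor
      · intro h
        apply (MulAut.congr e).injective
        apply ψ.injective
        rw [map_one, map_one]
        exact h
      · intro h
        show ψ ((MulAut.congr e) ((MulAut.conjNormal (H := Q)) g)) = 1
        rw [h, map_one, map_one]
    rw [h1]
    constructor
    · intro h q hq
      have h3 := congrArg (fun φ : MulAut Q => ((φ ⟨q, hq⟩ : Q) : G)) h
      simp only [MulAut.conjNormal_apply, MulAut.one_apply] at h3
      calc q * g = (g * q * g⁻¹) * g := by rw [h3]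
        _ = g * q := by group
    · intro h
      apply MulEquiv.ext
      intro q
      apply Subtype.ext
      rw [MulAut.conjNormal_apply, MulAut.one_apply, ← h q q.2]
      group
  have hle : f₀.ker ≤ centralizer (Q : Set G) := by
    intro g hg
    rw [mem_centralizer_iff]
    exact (hker g).mp hg
  -- Sylow subgroups of the kernel are cyclic
  have hsyl : SylCyc f₀.ker := by
    intro p hp P
    rcases (hF.subgroup f₀.ker).sylow p P with hc | ⟨rfl, -⟩
    · exact hc
    have hT : (P : Subgroup f₀.ker).map f₀.ker.subtype ≤ centralizer (Q : Set G) :=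
      (Subgroup.map_subtype_le _).trans hle
    have hT2 : IsPGroup 2 ((P : Subgroup f₀.ker).map f₀.ker.subtype) :=
      P.2.map f₀.ker.subtype
    haveI := Cfsg.Agent.Lib.H4.FC.isCyclic_of_le_centralizer_Q8
      (Cfsg.Agent.Lib.H5.Zas.abCyc_of_isFPF hF) Q e _ hT hT2
    exact isCyclic_of_injective
      ((P : Subgroup f₀.ker).equivMapOfInjective f₀.ker.subtype
        f₀.ker.subtype_injective).toMonoidHom
      ((P : Subgroup f₀.ker).equivMapOfInjective f₀.ker.subtype f₀.ker.subtype_injective).injective
  -- the order of the image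
  have hRcard : Nat.card f₀.range ∣ 24 := by
    rw [← card_s4]
    exact Subgroup.card_subgroup_dvd_card _
  have hidx : f₀.ker.index = Nat.card f₀.range := Subgroup.index_ker f₀
  have h3 : 3 ∣ Nat.card f₀.range := by
    by_contra h3
    apply hnc
    apply Cfsg.Agent.Lib.H16.hasNormalPComplement_of_normal_of_index_pow f₀.ker ?_
      (hasNormalPComplement_of_sylCyc f₀.ker hsyl)
    have h8 : Nat.card f₀.range ∣ 2 ^ 3 := by
      have hcop : Nat.Coprime (Nat.card f₀.range) 3 :=
        (Nat.Coprime.symm ((Nat.Prime.coprime_iff_not_dvd (by norm_num)).mpr h3))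
      have : Nat.card f₀.range ∣ 8 * 3 := hRcard
      exact hcop.dvd_of_dvd_mul_right this
    obtain ⟨j, -, hj⟩ := (Nat.dvd_prime_pow Nat.prime_two).mp h8
    exact ⟨j, by rw [hidx, hj]⟩
  -- the image of `Q` has order divisible by four
  have h4 : 4 ∣ Nat.card f₀.range := by
    let φQ : Q →* Perm (Fin 4) := f₀.comp Q.subtype
    have hsub : φQ.range ≤ f₀.range := by
      rintro _ ⟨q, rfl⟩
      exact ⟨(q : G), rfl⟩
    have hdvd : Nat.card φQ.range ∣ Nat.card f₀.range :=
      Subgroup.card_dvd_of_le hsub
    refine dvd_trans ?_ hdvd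
    have hkQ : ∀ x : Q, x ∈ φQ.ker → x = 1 ∨ x = e.symm (QuaternionGroup.a 2) := by
      intro x hx
      have hx' : (x : G) ∈ f₀.ker := hx
      have hc := (hker _).mp hx'
      have h5 : ∀ y : QuaternionGroup 2, y * e x = e x * y := by
        intro y
        obtain ⟨q, rfl⟩ := e.surjective y
        rw [← map_mul, ← map_mul]
        congr 1
        apply Subtype.ext
        exact hc q q.2
      rcases q8_center (e x) h5 with h6 | h6
      · left
        apply e.injective
        rw [h6, map_one]
      · right
        apply e.injective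
        rw [h6, MulEquiv.apply_symm_apply]
    have hk2 : Nat.card φQ.ker ≤ 2 := by
      classical
      let f : φQ.ker → Fin 2 := fun z => if z = 1 then 0 else 1
      have hf : Function.Injective f := by
        intro a b hab
        by_cases ha : a = 1
        · by_cases hb : b = 1
          · rw [ha, hb]
          · simp [f, ha, hb] at hab
        · by_cases hb : b = 1
          · simp [f, ha, hb] at hab
          · apply Subtype.ext
            have ha' := (hkQ a a.2).resolve_left (fun h => ha (Subtype.ext h))
            have hb' := (hkQ b b.2).resolve_left (fun h => hb (Subtype.ext h))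
            rw [ha', hb']
      have := Nat.card_le_card_of_injective f hf
      simpa using this
    have hQ8 : Nat.card Q = 8 := by
      rw [Nat.card_congr e.toEquiv, Nat.card_eq_fintype_card, QuaternionGroup.card]
    have hmul := φQ.ker.card_mul_index
    rw [Subgroup.index_ker, hQ8] at hmul
    have hpos : 0 < Nat.card φQ.ker := Nat.card_pos
    have : Nat.card φQ.ker = 1 ∨ Nat.card φQ.ker = 2 := by omega
    rcases this with h | h
    · rw [h, one_mul] at hmul
      rw [hmul]; norm_num
    · rw [h] at hmul
      have : Nat.card φQ.range = 4 := by omega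
      rw [this]
  have h12 : 12 ∣ Nat.card f₀.range := by
    have : 3 * 4 ∣ Nat.card f₀.range :=
      Nat.Coprime.mul_dvd_of_dvd_of_dvd (by norm_num) h3 h4
    exact this
  have hcases : Nat.card f₀.range = 12 ∨ Nat.card f₀.range = 24 := by
    obtain ⟨a, ha⟩ := h12
    obtain ⟨b, hb⟩ := hRcard
    have hpos : 0 < Nat.card f₀.range := Nat.card_pos
    rw [ha] at hb hpos
    have : a * b = 2 := by nlinarith
    have ha2 : a ∣ 2 := ⟨b, this.symm⟩
    have := Nat.le_of_dvd (by norm_num) ha2
    interval_cases a
    · omega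
    · left; rw [ha]
    · right; rw [ha]
  refine ⟨f₀.ker, inferInstance, hsyl, ?_⟩
  rcases hcases with h | h
  · -- the image is the alternating group
    have hidx2 : f₀.range.index = 2 := by
      have := f₀.range.card_mul_index
      rw [h, card_s4] at this
      omega
    have hA : f₀.range = alternatingGroup (Fin 4) := Perm.eq_alternatingGroup_of_index_eq_two hidx2
    have hmem : ∀ g : G, f₀ g ∈ alternatingGroup (Fin 4) := by
      intro g
      rw [← hA]
      exact ⟨g, rfl⟩
    refine Or.inr (Or.inr (Or.inl ⟨f₀.codRestrict (alternatingGroup (Fin 4)) hmem, ?_, ?_⟩))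
    · rintro ⟨t, ht⟩
      rw [← hA] at ht
      obtain ⟨g, rfl⟩ := ht
      exact ⟨g, rfl⟩
    · exact MonoidHom.ker_codRestrict f₀ _ hmem
  · have htop : f₀.range = ⊤ := Subgroup.eq_top_of_card_eq _ (by rw [h, card_s4])
    exact Or.inr (Or.inr (Or.inr (Or.inl ⟨f₀, MonoidHom.range_eq_top.mp htop, rfl⟩)))

end Cfsg.Agent.Lib.H5.ZN
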