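import Mathlib
import Cfsg.Agent.Lib.H5.ZN.Uniq
import Cfsg.Agent.Lib.H5.Zas.MinCE
import Cfsg.Agent.Lib.H5.FC.Nonsolv4

/-!
# S4291, existence: the non-solvable case (helper5)
-/

set_option autoImplicit false

namespace Cfsg.Agent.Lib.H5.ZN

open Subgroup Equiv Cfsg.Agent.Lib.H25.Zas Cfsg.Agent.Lib.H5.FC Cfsg.Agent.Lib.H5.Zas

/-- `quotCenterAut` as a homomorphism -/
noncomputable def quotCenterAutHom (S : Type*) [Group S] : MulAut S →* MulAut (S ⧸ center S) where
  toFun := quotCenterAut
  map_one' := by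
    apply MulEquiv.ext
    intro x
    obtain ⟨s, rfl⟩ := QuotientGroup.mk_surjective x
    rw [quotCenterAut_mk]
    rfl
  map_mul' := by
    intro φ ψ
    apply MulEquiv.ext
    intro x
    obtain ⟨s, rfl⟩ := QuotientGroup.mk_surjective x
    rw [quotCenterAut_mk]
    show _ = quotCenterAut φ (quotCenterAut ψ (s : S ⧸ center S))
    rw [quotCenterAut_mk, quotCenterAut_mk]
    rfl

theorem quotCenterAutHom_injective {S : Type*} [Group S] (hperf : commutator S = ⊤) :
    Function.Injective (quotCenterAutHom S) := quotCenterAut_injective hperf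

variable {G : Type*} [Group G] [Finite G]

theorem exists_of_slData (hF : IsFPF G) (d : SLData G) (hSperf : commutator d.S = ⊤) :
    ∃ N : Subgroup G, N.Normal ∧ SylCyc N ∧ QuotCond N := by
  haveI : Fact (Nat.Prime 2) := ⟨Nat.prime_two⟩
  haveI : Fact (Nat.Prime 5) := ⟨by norm_num⟩
  haveI := d.hn
  haveI := d.C_normal
  -- Sylow subgroups of `C` are cyclic
  have hsyl : SylCyc d.C := by
    have hCF : IsFPF d.C := hF.subgroup d.C
    obtain ⟨P⟩ : Nonempty (Sylow 2 d.C) := inferInstance
    have hPcyc : IsCyclic (P : Subgroup d.C) := by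
      have hle : (P : Subgroup d.C).map d.C.subtype ≤ zpowers d.z := by
        rintro _ ⟨t, ht, rfl⟩
        obtain ⟨k, hk⟩ := P.2 ⟨t, ht⟩
        have hk' : (t : G) ^ 2 ^ k = 1 := by
          have := congrArg (fun u : (P : Subgroup d.C) => ((u : d.C) : G)) hk
          simpa using this
        rcases d.two_elt_C t.2 hk' with h | h
        · rw [Subgroup.subtype_apply, h]; exact one_mem _
        · rw [Subgroup.subtype_apply, h]; exact mem_zpowers _
      haveI : IsCyclic ((P : Subgroup d.C).map d.C.subtype) := Subgroup.isCyclic_of_le hle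
      exact isCyclic_of_injective
        ((P : Subgroup d.C).equivMapOfInjective d.C.subtype d.C.subtype_injective).toMonoidHom
        ((P : Subgroup d.C).equivMapOfInjective d.C.subtype d.C.subtype_injective).injective
    exact sylCyc_of_isZGroup (isZGroup_of_cyclic_sylow_two hCF P hPcyc)
  -- the homomorphism to `S₅`
  have hperf25 : commutator SL25 = ⊤ := commutator_eq_top_of_mulEquiv d.e hSperf
  obtain ⟨ε⟩ := Cfsg.Agent.S0253.result (F := ZMod 5) (ZMod.card 5)
  have hb := Cfsg.Agent.Lib.H18.conjNormal_alternating_bijective (α := Fin 5) (by simp) (by simp)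
  let β : Perm (Fin 5) ≃* MulAut (alternatingGroup (Fin 5)) := MulEquiv.ofBijective _ hb
  let Ψ : MulAut d.S →* Perm (Fin 5) :=
    β.symm.toMonoidHom.comp ((MulAut.congr ε).toMonoidHom.comp
      ((quotCenterAutHom SL25).comp (MulAut.congr d.e).toMonoidHom))
  have hΨ : Function.Injective Ψ := by
    intro a b hab
    apply (MulAut.congr d.e).injective
    apply quotCenterAutHom_injective hperf25
    apply (MulAut.congr ε).injective
    apply β.symm.injective
    exact hab
  let Θ : G →* Perm (Fin 5) := Ψ.comp d.φ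
  have hker : Θ.ker = d.C := by
    rw [← d.ker_φ]
    ext g
    rw [MonoidHom.mem_ker, MonoidHom.mem_ker]
    constructor
    · intro h
      apply hΨ
      rw [map_one]
      exact h
    · intro h
      show Ψ (d.φ g) = 1
      rw [h, map_one]
  -- the order of the image
  have h60 : Nat.card ((d.S.map d.φ).map Ψ) = 60 := by
    rw [Subgroup.card_map_of_injective hΨ, d.card_map_φ]
  have hsub : (d.S.map d.φ).map Ψ ≤ Θ.range := by
    rintro _ ⟨_, ⟨s, -, rfl⟩, rfl⟩
    exact ⟨s, rfl⟩
  have hdvd1 : 60 ∣ Nat.card Θ.range := by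
    rw [← h60]
    exact Subgroup.card_dvd_of_le hsub
  have hdvd2 : Nat.card Θ.range ∣ 120 := by
    rw [← card_s5]
    exact Subgroup.card_subgroup_dvd_card _
  have hcases : Nat.card Θ.range = 60 ∨ Nat.card Θ.range = 120 := by
    obtain ⟨a, ha⟩ := hdvd1
    obtain ⟨b, hb'⟩ := hdvd2
    have hpos : 0 < Nat.card Θ.range := Nat.card_pos
    rw [ha] at hb' hpos
    have : a * b = 2 := by nlinarith
    have ha2 : a ∣ 2 := ⟨b, this.symm⟩
    have := Nat.le_of_dvd (by norm_num) ha2
    interval_cases a
    · omega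
    · left; rw [ha]
    · right; rw [ha]
  refine ⟨d.C, inferInstance, hsyl, ?_⟩
  rcases hcases with h | h
  · have hidx2 : Θ.range.index = 2 := by
      have := Θ.range.card_mul_index
      rw [h, card_s5] at this
      omega
    have hA : Θ.range = alternatingGroup (Fin 5) := Perm.eq_alternatingGroup_of_index_eq_two hidx2
    have hmem : ∀ g : G, Θ g ∈ alternatingGroup (Fin 5) := by
      intro g
      rw [← hA]
      exact ⟨g, rfl⟩
    refine Or.inr (Or.inr (Or.inr (Or.inr (Or.inl
      ⟨Θ.codRestrict (alternatingGroup (Fin 5)) hmem, ?_, ?_⟩))))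
    · rintro ⟨t, ht⟩
      rw [← hA] at ht
      obtain ⟨g, rfl⟩ := ht
      exact ⟨g, rfl⟩
    · rw [MonoidHom.ker_codRestrict Θ _ hmem, hker]
  · have htop : Θ.range = ⊤ := Subgroup.eq_top_of_card_eq _ (by rw [h, card_s5])
    exact Or.inr (Or.inr (Or.inr (Or.inr (Or.inr ⟨Θ, MonoidHom.range_eq_top.mp htop, hker⟩))))

end Cfsg.Agent.Lib.H5.ZN
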