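import Mathlib
import Cfsg.Agent.Lib.H5.ZN.ExB
import Cfsg.Agent.Lib.H5.ZN.ExC
import Cfsg.Agent.Lib.H5.ZN.ExD
import Cfsg.Agent.Lib.H5.Zas.Main
import Cfsg.Agent.Lib.L0.FrobeniusPC

/-!
# S4291: the normal Z-subgroup of a Frobenius complement (helper5)

A finite group with a fixed-point-free complex representation has exactly one normal subgroup `N`
with cyclic Sylow subgroups and `G / N ∈ {1, V₄, A₄, S₄, A₅, S₅}` (modulo `HHyp.false`).
-/

set_option autoImplicit false

namespace Cfsg.Agent.Lib.H5.ZN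

open Subgroup Equiv Cfsg.Agent.Lib.H25.Zas Cfsg.Agent.Lib.H5.FC Cfsg.Agent.Lib.H5.Zas

universe u

theorem exists_N (hH : ∀ (H : Type u) [Group H], HHyp H → False) {G : Type u} [Group G]
    [Finite G] (hF : IsFPF G) : ∃ N : Subgroup G, N.Normal ∧ SylCyc N ∧ QuotCond N := by
  haveI : Fact (Nat.Prime 2) := ⟨Nat.prime_two⟩
  by_cases hZ : IsZGroup G
  · haveI := hZ
    exact ⟨⊤, inferInstance, sylCyc_of_isZGroup inferInstance, Or.inl rfl⟩
  have hncyc : ∀ P : Sylow 2 G, ¬ IsCyclic P := fun P hc =>
    hZ (isZGroup_of_cyclic_sylow_two hF P hc)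
  by_cases hsolv : Group.IsSolvable G
  · haveI := hsolv
    by_cases hc : Cfsg.HasNormalPComplement 2 G
    · obtain ⟨P, K, hKn, hcompl⟩ := hc
      haveI := hKn
      rcases hF.sylow 2 P with hcy | ⟨-, n, ⟨e⟩⟩
      · exact absurd hcy (hncyc P)
      have hn : 1 ≤ n := by
        by_contra hn
        have hn0 : n = 0 := by omega
        subst hn0
        apply hncyc P
        haveI := QuaternionGroup.quaternionGroup_one_isCyclic
        rw [pow_zero] at e
        exact isCyclic_of_surjective e.symm e.symm.surjective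
      haveI : NeZero (2 ^ n) := ⟨by positivity⟩
      have hev : Even (2 ^ n) := by
        obtain ⟨j, rfl⟩ : ∃ j, n = j + 1 := ⟨n - 1, by omega⟩
        rw [pow_succ]
        exact even_two.mul_left _
      let e' : G ⧸ K ≃* (P : Subgroup G) := hcompl.symm.QuotientMulEquiv
      let Φ : G →* QuaternionGroup (2 ^ n) :=
        e.toMonoidHom.comp (e'.toMonoidHom.comp (QuotientGroup.mk' K))
      have hΦ : Function.Surjective Φ :=
        e.surjective.comp (e'.surjective.comp (QuotientGroup.mk'_surjective K))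
      have hker : Φ.ker = K := by
        ext g
        rw [MonoidHom.mem_ker]
        constructor
        · intro h
          have h1 : e' ((QuotientGroup.mk' K) g) = 1 := e.injective (by rw [map_one]; exact h)
          have h2 : (QuotientGroup.mk' K) g = 1 := e'.injective (by rw [map_one]; exact h1)
          exact (QuotientGroup.eq_one_iff g).mp h2
        · intro h
          have h2 : (QuotientGroup.mk' K) g = 1 := (QuotientGroup.eq_one_iff g).mpr h
          show e (e' ((QuotientGroup.mk' K) g)) = 1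
          rw [h2, map_one, map_one]
      have hodd : ¬ 2 ∣ Nat.card Φ.ker := by
        rw [hker, ← hcompl.index_eq_card]
        exact P.not_dvd_index
      exact exists_of_hom_quaternion hF hev Φ hΦ hodd
    · have hFr : ¬ Cfsg.Agent.Lib.L0.FrobHyp 2 G := fun h =>
        hc (Cfsg.Agent.Lib.L0.hasNormalPComplement_of_frobHyp h)
      obtain ⟨Q, hQn, ⟨e⟩⟩ :=
        Cfsg.Agent.Lib.H4.FC.exists_normal_Q8_of_not_frobHyp (abCyc_of_isFPF hF) hFr
      haveI := hQn
      exact exists_of_normal_q8 hF Q e hc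
  · obtain ⟨S, hSn, hSb, hSS⟩ := exists_perfect_normal hsolv
    have hSperf : commutator S = ⊤ := commutator_eq_top_of_self S hSS
    haveI : Nontrivial S := (Subgroup.nontrivial_iff_ne_bot S).mpr hSb
    obtain ⟨e⟩ := zassenhaus_fpf hH S (hF.subgroup S) hSperf
    exact exists_of_slData hF ⟨abCyc_of_isFPF hF, S, hSn, e⟩ hSperf

/-- **S4291** for groups with a fixed-point-free representation, modulo `HHyp.false`. -/
theorem existsUnique_N (hH : ∀ (H : Type u) [Group H], HHyp H → False) {G : Type u} [Group G]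
    [Finite G] (hF : IsFPF G) : ∃! N : Subgroup G, N.Normal ∧ SylCyc N ∧ QuotCond N := by
  obtain ⟨N, hN⟩ := exists_N hH hF
  refine ⟨N, hN, ?_⟩
  rintro N' ⟨hn', hs', hq'⟩
  exact uniqueness hF hn' hN.1 hs' hN.2.1 hq' hN.2.2

end Cfsg.Agent.Lib.H5.ZN
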